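import Cfsg.Agent.Omega.EK3.QL.Base
import Cfsg.Agent.Omega.EK3.Q.Split

/-!
# The case (L) of GammaFF, natural blocks, `q ≥ 4`, over `MulX.MulL`: (T1) or the K-shape

* `tOne_of_zc` : (T1) from `C_G(Ω₁(Z(T))) ≤ N_G(Z_J)` for the 2-groups `T ≥ B` normalising every `Z i`, and LL (`LowE`);
* **`tOne_four`** : `q = 4`: (T1), or `C_{Z i}(T*) = ⟨z i⟩` has order 2 for all `i` and `C_G(z 1, .., z k)` does not
  normalise all `Z i`; from `LowE` alone;
* `tiW_of` : the weak `ti` (`C_G(Z_l : l ≠ j) ⊓ C_G(m) ≤ N_G(Z_j)`, `1 ≠ m ∈ Z_j`) from (T1).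
-/

set_option autoImplicit false
set_option linter.unusedSectionVars false

namespace Cfsg.Agent.Omega.EK3.QX

open Subgroup Cfsg Cfsg.Agent.ZN.ChoiceBase
open Cfsg.Agent.ZN (jj zj bau zc zl o2)
open Cfsg.Agent.ZN.ChoiceSit (Syl exists_syl syl_conj)
open Cfsg.Agent.MinSimple.MinParabolic (IsMinPar)
open Cfsg.Agent.Omega.NO3S.EThree.Frame
open Cfsg.Agent.Omega.Node.MulX
open Cfsg.Agent.Omega.EK3.Q

universe u

variable {G : Type u} [Group G] [Finite G] {S : Sylow 2 G} {P B ZJ : Subgroup G} {k : ℕ}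
  {L W Z C A : Fin k → Subgroup G} {q : ℕ}

/-- **(T1)** from `C_G(Ω₁(Z(T))) ≤ N_G(Z_J)`. -/
theorem tOne_of_zc (h : MulL S P B ZJ L W Z C A q) (hq : 2 < q) (hk : 0 < k) (hL : QL.LowE h)
    (hT : ∀ T : Subgroup G, IsPGroup 2 T → B ≤ T → (∀ i, T ≤ normalizer (Z i : Set G)) →
      centralizer (zc T : Set G) ≤ normalizer (ZJ : Set G)) : TOne ZJ Z := by
  intro Y₀ hYJ hYi
  have hYne : Y₀ ≠ ⊥ := by
    rintro rfl
    obtain ⟨z, -, h1, h2⟩ := hYi ⟨0, hk⟩
    exact h1 (mem_bot.1 h2)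
  have hBH : B ≤ centralizer (Y₀ : Set G) := by
    rw [le_centralizer_iff]
    exact hYJ.trans (le_centralizer_iff.1 h.lb.Bc)
  obtain ⟨T, hTs, hBT⟩ := exists_syl h.lb.Bp hBH
  have hTB : T ≤ normalizer (B : Set G) := h.lb.two_le hTs.2.1 hBT
  refine QL.cent_le h hq hYJ hYne hTs hBT inf_le_right ?_ ?_
  · intro R hR hTR hcR hRH hor
    have hz : R ≤ centralizer (zc T : Set G) := by
      rcases hor with h1 | h1
      · exact h1
      · exact QL.lowC h hq hL hYJ hYi T R hTR ((QL.eqBT h) ▸ hBT) hR hcR hRH h1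
    refine hz.trans (hT T hTs.2.1 hBT fun i x hx => ?_)
    obtain ⟨z, hz, h1, h2⟩ := hYi i
    exact fixZ h.bg (h.bg.norm_ZJ (hTB hx)) hz h1 (mem_centralizer_iff.1 (hTs.1 hx) z h2).symm
  · intro L' i hL' hc
    obtain ⟨z, hz, h1, h2⟩ := hYi i
    have h3 : z ∈ C i := (hc z (h.bg.fr.Z_le i hz)).2 fun l hl => (mem_centralizer_iff.1 (hL' hl) z h2).symm
    exact absurd h3 (QL.not_mem_C h.bg hz h1)

/-- **(T1) or the K-shape, `q = 4`**, from LL (`LowE`). -/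
theorem tOne_four (hM : MulL S P B ZJ L W Z C A 4) (hk : 0 < k) (hL : QL.LowE hM) :
    TOne ZJ Z ∨ ∃ z : Fin k → G, HZ S W Z z ∧
      ∃ i, ¬ (⨅ l, centralizer ({z l} : Set G)) ≤ normalizer (Z i : Set G) := by
  classical
  have h := hM.bg
  have hTZ : ∀ t ∈ TStar S W, ∀ l, ∀ v ∈ Z l, t * v * t⁻¹ ∈ Z l := fun t ht l v hv =>
    (mem_normalizer_iff.1 (((mem_TStar h).1 ht).2 l) v).1 hv
  have hT2 : IsPGroup 2 (TStar S W) := S.isPGroup'.to_le inf_le_left
  by_cases hA : TStar S W ≤ centralizer (ZJ : Set G)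
  · -- `T* = B`
    left
    refine tOne_of_zc hM (by norm_num) hk hL fun T hT hBT hi => ?_
    obtain ⟨n, hn, hle⟩ := exists_cj_TS h hT hBT hi
    refine cent_zc_le h hn ?_
    have h1 : cj n T ≤ B := by
      rw [h.eqB]
      exact le_inf (hle.trans inf_le_left) (hle.trans hA)
    have h2 : cj n T = B := le_antisymm h1 (by
      have h3 := cj_mono n hBT
      rwa [cj_eq_of_mem_normalizer hn] at h3)
    rw [h2, h.fr.zcB]
    exact centralizer_le_normalizer _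
  -- some `Z i` is moved
  obtain ⟨i₀, hi₀⟩ : ∃ i, ¬ Z i ≤ centralizer (TStar S W : Set G) := by
    by_contra hcon
    push Not at hcon
    apply hA
    rw [le_centralizer_iff]
    exact (Loc.ZJ_le_iSup h).trans (iSup_le hcon)
  have hcard : ∀ i, Nat.card (Z i) = 4 := h.fr.cardZ
  have hF0 : ∀ i, Z i ⊓ centralizer (TStar S W : Set G) ≠ ⊥ := by
    intro i e
    obtain ⟨v, hv, hv1, hvT⟩ := NO3S.EMany.Four.exists_fix hT2 (h.Z_two i) (h.Z_ne i) fun t ht v hv => hTZ t ht i v hv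
    have : v ∈ Z i ⊓ centralizer (TStar S W : Set G) := ⟨hv, mem_centralizer_iff.2 fun t ht => by
      have h2 := hvT t ht
      calc t * v = t * v * t⁻¹ * t := by group
        _ = v * t := by rw [h2]⟩
    rw [e, mem_bot] at this
    exact hv1 this
  -- `|C_{Z i}(T*)| = 2`
  have hcj : ∀ i, ∃ s ∈ (S : Subgroup G), cj s (Z i₀) = Z i ∧ cj s (TStar S W) = TStar S W := by
    intro i
    obtain ⟨s, hs, e⟩ := h.trans i₀ i
    refine ⟨s, hs, (h.cj_Z_iff hs).2 e, ?_⟩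
    refine Subgroup.eq_of_le_of_card_ge ?_ (by rw [card_cj])
    intro t ht
    have ht' : s⁻¹ * t * s ∈ TStar S W := mem_cj.1 ht
    refine (mem_TStar h).2 ⟨?_, fun l => ?_⟩
    · have h1 := mul_mem (mul_mem hs ((mem_TStar h).1 ht').1) (inv_mem hs)
      have e1 : s * (s⁻¹ * t * s) * s⁻¹ = t := by group
      rwa [e1] at h1
    · obtain ⟨j, hj, -⟩ := (h.nrm s⁻¹ (inv_mem (h.S_norm_B hs))).2 l
      have h1 : Z l = cj s (Z j) := by rw [← hj, cj_cj_inv]
      rw [h1, ← cj_normalizer, mem_cj]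
      exact ((mem_TStar h).1 ht').2 j
  have hlt : ∀ i, Nat.card ↥(Z i ⊓ centralizer (TStar S W : Set G) : Subgroup G) = 2 := by
    intro i
    obtain ⟨s, hs, e1, e2⟩ := hcj i
    have h1 : Z i ⊓ centralizer (TStar S W : Set G) = cj s (Z i₀ ⊓ centralizer (TStar S W : Set G)) := by
      rw [cj_inf, cj_centralizer, e1, e2]
    rw [h1, card_cj]
    have h2 : Nat.card ↥(Z i₀ ⊓ centralizer (TStar S W : Set G) : Subgroup G) ∣ 4 := by
      rw [← hcard i₀]
      exact Subgroup.card_dvd_of_le inf_le_left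
    have h3 : Nat.card ↥(Z i₀ ⊓ centralizer (TStar S W : Set G) : Subgroup G) ≠ 4 := by
      intro e
      have h4 : Z i₀ ⊓ centralizer (TStar S W : Set G) = Z i₀ :=
        Subgroup.eq_of_le_of_card_ge inf_le_left (by rw [e, hcard])
      exact hi₀ (inf_eq_left.1 h4)
    have h5 : Nat.card ↥(Z i₀ ⊓ centralizer (TStar S W : Set G) : Subgroup G) ≠ 1 := fun e =>
      hF0 i₀ (Subgroup.card_eq_one.1 e)
    have h6 := Nat.le_of_dvd (by norm_num) h2
    have h7 : Nat.card ↥(Z i₀ ⊓ centralizer (TStar S W : Set G) : Subgroup G) ≠ 3 := by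
      intro e
      rw [e] at h2
      omega
    have h8 : 0 < Nat.card ↥(Z i₀ ⊓ centralizer (TStar S W : Set G) : Subgroup G) := Nat.card_pos
    omega
  have hex : ∀ i, ∃ z, z ∈ Z i ∧ z ≠ 1 ∧ ∀ w ∈ Z i, (∀ t ∈ TStar S W, t * w = w * t) ↔ (w = 1 ∨ w = z) := by
    intro i
    obtain ⟨z, hz, hz1⟩ : ∃ z ∈ Z i ⊓ centralizer (TStar S W : Set G), z ≠ 1 := by
      by_contra hcon
      push Not at hcon
      exact hF0 i ((eq_bot_iff_forall _).2 hcon)
    refine ⟨z, hz.1, hz1, fun w hw => ⟨fun hwT => ?_, ?_⟩⟩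
    · by_cases hw1 : w = 1
      · exact Or.inl hw1
      · exact Or.inr (OM.UniPlus.eq_of_card_two (hlt i) ⟨hw, mem_centralizer_iff.2 hwT⟩ hz hw1 hz1)
    · rintro (rfl | rfl) t ht
      · rw [mul_one, one_mul]
      · exact mem_centralizer_iff.1 hz.2 t ht
  choose z hz hz1 hzT using hex
  by_cases hD : ∀ i, (⨅ l, centralizer ({z l} : Set G)) ≤ normalizer (Z i : Set G)
  · left
    refine tOne_of_zc hM (by norm_num) hk hL fun T hT hBT hi => ?_
    obtain ⟨n, hn, hle⟩ := exists_cj_TS h hT hBT hi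
    refine cent_zc_le h hn (le_trans ?_ ((le_iInf hD).trans (inf_norm_le h)))
    refine le_iInf fun l => centralizer_le ?_
    rw [Set.singleton_subset_iff]
    refine mem_zc.2 ⟨?_, h.fr.Vsq (h.fr.ZV l (hz l)), fun t ht => (hzT l (z l) (hz l)).2 (Or.inr rfl) t (hle ht)⟩
    have h3 := cj_mono n hBT
    rw [cj_eq_of_mem_normalizer hn] at h3
    exact h3 ((h.fr.blk l).VB ((h.fr.blk l).ZV (hz l)))
  · right
    push Not at hD
    exact ⟨z, fun i => ⟨hz i, hz1 i, hzT i⟩, hD⟩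

/-- **The weak `ti`** from (T1). -/
theorem tiW_of (h : Bg S P B ZJ L W Z C q) (t1 : TOne ZJ Z) (j : Fin k) {m : G} (hm : m ∈ Z j) (h1 : m ≠ 1) :
    YQ Z j ⊓ centralizer ({m} : Set G) ≤ normalizer (Z j : Set G) := by
  set Y₀ : Subgroup G := zpowers m ⊔ ⨆ l : {l : Fin k // l ≠ j}, Z l with hY₀
  have hmY : m ∈ Y₀ := mem_sup_left (mem_zpowers m)
  have hlY : ∀ l, l ≠ j → Z l ≤ Y₀ := fun l hl =>
    (le_iSup (fun l : {l : Fin k // l ≠ j} => Z l) ⟨l, hl⟩).trans le_sup_right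
  have hYJ : Y₀ ≤ ZJ := sup_le (by rw [zpowers_le]; exact h.fr.Z_le j hm) (iSup_le fun l => h.fr.Z_le l)
  have hle : YQ Z j ⊓ centralizer ({m} : Set G) ≤ centralizer (Y₀ : Set G) := by
    rw [le_centralizer_iff, hY₀]
    refine sup_le ?_ (iSup_le fun l => ?_)
    · rw [zpowers_le, mem_centralizer_iff]
      intro x hx
      exact mem_centralizer_singleton_iff.1 (mem_inf.1 hx).2
    · intro z hz
      exact mem_centralizer_iff.2 fun x hx => mem_YQ.1 (mem_inf.1 hx).1 l l.2 z hz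
  have h2 : centralizer (Y₀ : Set G) ≤ normalizer (ZJ : Set G) := by
    refine t1 Y₀ hYJ fun l => ?_
    by_cases hl : l = j
    · subst hl
      exact ⟨m, hm, h1, hmY⟩
    · obtain ⟨v, hv, hv1⟩ : ∃ v ∈ Z l, v ≠ 1 := by
        by_contra hcon
        push Not at hcon
        exact h.Z_ne l ((eq_bot_iff_forall _).2 hcon)
      exact ⟨v, hv, hv1, hlY l hl hv⟩
  intro x hx
  exact fixZ h (h2 (hle hx)) hm h1 (mem_centralizer_singleton_iff.1 (mem_inf.1 hx).2)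

end Cfsg.Agent.Omega.EK3.QX
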