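import Cfsg.Agent.Omega.EK3.Q.Claim
import Cfsg.Agent.Omega.EK3.Q.OfMul
import Cfsg.Agent.Omega.Node.MulXTwo
import Cfsg.Agent.Omega.OM.SWT.CaseFour
import Cfsg.Agent.Omega.OM.SWT.CaseLS
import Cfsg.Agent.Omega.OM.SWT.Sel

/-!
# (4F-K), `q = 4`, over a general top level and over the case (L) of GammaFF: `hp`

`T* = S ⊓ ⨅ N(W l)`, `C_{Z l}(T*) = ⟨z l⟩` of order 2, `D* = ⨅ C_G(z l)`.  If `D*` does not normalise some `Z i`, then
for every `i` some `f ∈ D*` normalises `W i` and not `Z i`.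

* `lev_main` : a pair `(T, F)` with all `Z i` normalised by `T` : `F ≤ N(Z i)` or `F ≤ N(W i)`;
* `hp_of` : over `SWT.Dt`, from the sockets `BM`, `QFix`, `QFam` of `SWT/Base.lean` for `H = D*`, `M = N_G(Z_J)`;
* `uniX`, `exists_dt` : the frame `MulL` is the frame `SWT.Dt` up to a permutation of the indices;
* **`hpX`** : over `MulL .. 4`, from `LowC`, `OffC` (`SWT/CaseLS.lean`) for `H = D*`, `M = N_G(Z_J)`.
-/

set_option autoImplicit false
set_option linter.unusedSectionVars false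

namespace Cfsg.Agent.Omega.EK3.QX

open Subgroup Cfsg Cfsg.Agent.ZN.ChoiceBase
open Cfsg.Agent.ZN (jj zj bau zc zl o2)
open Cfsg.Agent.ZN.ChoiceSit (Syl exists_syl syl_conj le_o2 o2_le_syl isPGroup_o2 le_normalizer_o2)
open Cfsg.Agent.MinSimple.MinParabolic (IsMinPar)
open Cfsg.Agent.Omega.FrameFF (cv)
open Cfsg.Agent.Omega.FFThm (NatKM)
open Cfsg.Agent.Omega.NO3S.OneLine (NatC)
open Cfsg.Agent.Omega.NO3S.EThree.Frame
open Cfsg.Agent.Omega.NO3S.Level (CaseL)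
open Cfsg.Agent.Omega.Node.MultiOf Cfsg.Agent.Omega.Node.MulX
open Cfsg.Agent.Omega.OM
open Cfsg.Agent.Omega.OM.Lev.Nat
open Cfsg.Agent.Omega.OM.SWT (LV ZT BT lb Dt Pair Phi FamF BM QFix QFam nL LowC OffC)
open Cfsg.Agent.Omega.EK3.Q (TStar mem_TStar HZ mem_DD iInf_cent_eq fixZ exists_cj_TS inf_norm_le syl_TStar hp_all
  B_le_TStar)

universe u

variable {G : Type u} [Group G] [Finite G] {S : Sylow 2 G} {P : Subgroup G}

section dt

variable {n : LV S} {k : ℕ} {F : Type} [Field F] [Finite F] [CharP F 2]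
  {M : NatC F (S : Subgroup G) P (zl (S : Subgroup G) P) (cv (S : Subgroup G) P) k} {L Z A : Fin k → Subgroup G}

/-- the claim for one pair -/
theorem lev_main (D : Dt P n M L Z A) {X H T Y : Subgroup G} (hp : Pair P n X H T Y) (hTS : T ≤ (S : Subgroup G))
    (hfam : FamF P n T Y) (hall : ∀ i, i ∈ Phi Z T) (hq : Nat.card F = 4)
    (hD : centralizer (ZT n : Set G) ≤ X) (hN : normalizer (BT n : Set G) ≤ X)
    (i : Fin k) : Y ≤ normalizer (Z i : Set G) ∨ Y ≤ normalizer (Wn M i : Set G) := by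
  obtain ⟨z₀, f₀, m⟩ := D.exists_md
  have hZ : ∀ i, ∀ t ∈ T, cj t (Z i) = Z i := fun i t ht => hall i t ht
  obtain ⟨u, hu, hue, huY⟩ := SWT.CaseFour.exists_u D m hp hTS hZ hq i
  obtain ⟨𝓐, h1⟩ := SWT.CaseFour.oneF D m hp hTS hZ hq hfam hD hN hu hue huY
  have hfix : o2 Y ≤ centralizer (Z i : Set G) → Y ≤ centralizer (Z i : Set G) := by
    intro hi x hx
    refine mem_centralizer_iff.2 fun z hz => ?_
    have h3 : z ∈ centralizer (Y : Set G) :=
      hp.fix ⟨D.ln.fr.Z_le i hz, mem_centralizer_iff.2 fun o ho => (mem_centralizer_iff.1 (hi ho) z hz).symm⟩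
    exact (mem_centralizer_iff.1 h3 x hx).symm
  rcases h1.main hfix with h2 | h2
  · left
    rw [← Dich.oddGen_sup_syl hp.syl]
    exact sup_le (h2.trans (centralizer_le_normalizer _)) fun t ht => mem_normalizer_iff_cj.2 (hZ i t ht)
  · exact Or.inr h2

/-- **`hp`** over `SWT.Dt`. -/
theorem hp_of (D : Dt P n M L Z A) (hF : Nat.card F = 4) {z : Fin k → G} (hz : HZ S (Wn M) Z z)
    (hne : ∃ i, ¬ (⨅ l, centralizer ({z l} : Set G)) ≤ normalizer (Z i : Set G))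
    (hBM : BM n (normalizer (ZT n : Set G)) (⨅ l, centralizer ({z l} : Set G)))
    (hQ : QFix n (normalizer (ZT n : Set G)) (⨅ l, centralizer ({z l} : Set G)))
    (hQF : QFam P n (normalizer (ZT n : Set G)) (⨅ l, centralizer ({z l} : Set G))) :
    ∀ i, ∃ f ∈ (⨅ l, centralizer ({z l} : Set G)),
      f ∈ normalizer (Wn M i : Set G) ∧ f ∉ normalizer (Z i : Set G) := by
  have hbg : Bg S P (BT n) (ZT n) L (Wn M) Z (Cn M) (Nat.card F) := D.bg
  refine hp_all hbg hz ?_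
  obtain ⟨i₀, hne⟩ := hne
  have hDD := iInf_cent_eq z
  set H : Subgroup G := ⨅ l, centralizer ({z l} : Set G) with hH
  have hXJ : centralizer (ZT n : Set G) ≤ normalizer (ZT n : Set G) := centralizer_le_normalizer _
  have hNJ : normalizer (BT n : Set G) ≤ normalizer (ZT n : Set G) := (lb n).norm_B_le
  have hle : (⨆ l, Subgroup.zpowers (z l) : Subgroup G) ≤ ZT n := iSup_le fun l => by
    rw [zpowers_le]; exact hbg.fr.Z_le l (hz l).1
  have hne1 : (⨆ l, Subgroup.zpowers (z l) : Subgroup G) ≠ ⊥ := by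
    intro e
    have h1 : z i₀ ∈ (⨆ l, Subgroup.zpowers (z l) : Subgroup G) :=
      (le_iSup (fun l => Subgroup.zpowers (z l)) i₀) (mem_zpowers _)
    rw [e, mem_bot] at h1
    exact (hz i₀).2.1 h1
  have hch : H ⊓ centralizer (o2 H : Set G) ≤ o2 H := by
    rw [hDD]
    exact Swap.char2_cent hbg.hyp.ctx.char2 ((lb n).Bp.to_le (hle.trans (lb n).ZB)) hne1
  have hBH : BT n ≤ H := by
    rw [hDD, le_centralizer_iff]
    exact hle.trans (le_centralizer_iff.1 (lb n).Bc)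
  have hHM : ¬ H ≤ normalizer (ZT n : Set G) := fun hcon => hne fun x hx =>
    fixZ hbg (hcon hx) (hz i₀).1 (hz i₀).2.1 (mem_DD.1 hx i₀)
  obtain ⟨T', F', hp'⟩ := SWT.exists_pair D.ln hBM hQ hXJ hNJ hBH hch hHM
  -- conjugate into `T*`, inside `D*`
  have hTs : Syl (TStar S (Wn M)) H := syl_TStar hbg hz
  obtain ⟨T₁, hT₁, hTT₁⟩ := exists_syl hp'.syl.2.1 (hp'.syl.1.trans hp'.le)
  obtain ⟨d, hd, hdT⟩ := syl_conj hT₁ hTs
  have hdT' : cj d T' ≤ TStar S (Wn M) := by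
    rw [← hdT]
    exact cj_mono d hTT₁
  have hdB : d ∈ normalizer (BT n : Set G) := mem_normalizer_iff_cj.2
    (SWT.wc n _ S.isPGroup' (lb n).BS _ (((cj_mono d hp'.BT).trans hdT').trans inf_le_left))
  have hdH : cj d H = H := cj_eq_of_mem_normalizer (le_normalizer hd)
  have hp := SWT.pair_cj D.ln hNJ hp' hdB
  rw [hdH] at hp
  have hTS : cj d T' ≤ (S : Subgroup G) := hdT'.trans inf_le_left
  have hTM : cj d T' ≤ normalizer (ZT n : Set G) := ((lb n).two_le hp.syl.2.1 hp.BT).trans hNJ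
  have hall : ∀ i, i ∈ Phi Z (cj d T') := fun i t ht =>
    mem_normalizer_iff_cj.1 (((mem_TStar hbg).1 (hdT' ht)).2 i)
  have hfam : FamF P n (cj d T') (cj d F') := SWT.exists_fam D.ln hp hQF hXJ hTM le_rfl
  -- an index moved by `F`
  obtain ⟨i, hi⟩ : ∃ i, ¬ cj d F' ≤ normalizer (Z i : Set G) := by
    by_contra hcon
    push Not at hcon
    exact hp.nM ((le_iInf hcon).trans (inf_norm_le hbg))
  have h1 : cj d F' ≤ normalizer (Wn M i : Set G) :=
    (lev_main D hp hTS hfam hall hF hXJ hNJ i).resolve_left hi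
  obtain ⟨f, hf, hfn⟩ := SetLike.not_le_iff_exists.1 hi
  exact ⟨i, f, hp.le hf, h1 hf, hfn⟩

end dt

section mulL

variable {B ZJ : Subgroup G} {k : ℕ} {L W Z C A : Fin k → Subgroup G} {q : ℕ}

/-- UNI for the blocks with module in `V_P`, `q > 2` -/
theorem uniX (h : MulL S P B ZJ L W Z C A q) (hq : 2 < q) {L' V' : Subgroup G}
    (hb : FBX B (zl (S : Subgroup G) P) L' V') :
    ∃ i, V' = W i ∧ ∀ z ∈ ZJ, z ∈ C i → ∀ l ∈ L', l * z = z * l := by
  obtain ⟨Z', -, i, -, hN, hV, hc, -⟩ := h.uni hb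
  exact ⟨i, NO3S.EMany.FourDQ.V_eq h.bg hq hN hV fun z hz hzC => (hc z hz).1 hzC, fun z hz hzC => (hc z hz).1 hzC⟩

/-- such a block moves every `z ∈ Z l`, `z ≠ 1`, for some `l`, and centralises `Z_J ⊓ C l` -/
theorem uni0X (h : MulL S P B ZJ L W Z C A q) (hq : 2 < q) {L' V' : Subgroup G}
    (hb : FBX B (zl (S : Subgroup G) P) L' V') :
    ∃ l, (∀ z ∈ Z l, z ≠ 1 → ∃ x ∈ L', x * z ≠ z * x) ∧ ∀ z ∈ ZJ, z ∈ C l → ∀ x ∈ L', x * z = z * x := by
  obtain ⟨i, rfl, hc⟩ := uniX h hq hb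
  obtain ⟨⟨⟨Z', q', hF⟩, -⟩, -⟩ := hb
  refine ⟨i, fun z hz h1 => ?_, hc⟩
  have hZ' : Z' = Z i := by
    ext x
    rw [hF.toMd.mem_Z_iff, (h.bg.fr.blk i).toMd.mem_Z_iff]
  subst hZ'
  have hq' : q' = q := by
    have e1 := hF.card
    rw [(h.bg.fr.blk i).card] at e1
    exact (Nat.eq_of_mul_eq_mul_left Nat.card_pos e1).symm
  subst hq'
  obtain ⟨x, hx, hne, -⟩ := hF.exists_mv
  refine ⟨x, hx, fun hc => h1 ?_⟩
  have h2 : z ∈ cj x (Z i) ⊓ Z i := by
    refine mem_inf.2 ⟨⟨z, hz, ?_⟩, hz⟩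
    show x * z * x⁻¹ = z
    rw [hc]; group
  rwa [hF.nat_tri (h.bg.fr.cardZ i) hx hne, mem_bot] at h2

/-- **the frame `MulL` is the frame `SWT.Dt`** -/
theorem exists_dtX (h : MulL S P B ZJ L W Z C A q) (hk : 2 ≤ k) (hq : 2 < q) :
    ∃ (F : Type) (_ : Field F) (_ : Finite F) (_ : CharP F 2)
      (M : NatC F (S : Subgroup G) P (zl (S : Subgroup G) P) (cv (S : Subgroup G) P) k)
      (L' Z' A' : Fin k → Subgroup G) (σ : Equiv.Perm (Fin k)), Nat.card F = q ∧ Dt P (nL h.cl) M L' Z' A' ∧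
        ∀ i, W i = Wn M (σ i) ∧ Z i = Z' (σ i) := by
  obtain ⟨F, _, _, _, hF, ⟨N⟩⟩ := h.nat
  obtain ⟨M, L', Z', A', -, D⟩ := SWT.exists_dt h.cl.hypN (n := nL h.cl) le_rfl (Node.MulG.exists_BO_caseL h.cl) hk N
  have eB : B = BT (nL h.cl) := h.eqB
  have key : ∀ i, ∃ j, Wn M i = W j ∧ Z' i = Z j := by
    intro i
    have hb : FBX B (zl (S : Subgroup G) P) (L' i) (Wn M i) := by
      rw [eB]
      exact ⟨⟨⟨_, _, D.bg.fr.blk i⟩, D.bg.block i⟩, fun v hv => hv.1⟩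
    obtain ⟨j, e, -⟩ := uniX h hq hb
    refine ⟨j, e, ?_⟩
    ext x
    rw [(D.bg.fr.blk i).toMd.mem_Z_iff, (h.bg.fr.blk j).toMd.mem_Z_iff, e, ← eB]
  choose τ hτ using key
  have hτi : Function.Injective τ := fun i j e => by
    have h1 : Wn M i = Wn M j := by rw [(hτ i).1, (hτ j).1, e]
    exact D.bg.W_inj h1
  refine ⟨F, inferInstance, inferInstance, inferInstance, M, L', Z', A',
    (Equiv.ofBijective τ (Finite.injective_iff_bijective.1 hτi)).symm, hF, D, fun i => ?_⟩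
  set σ := Equiv.ofBijective τ (Finite.injective_iff_bijective.1 hτi) with hσ
  have e : τ (σ.symm i) = i := σ.apply_symm_apply i
  constructor
  · rw [(hτ _).1, e]
  · rw [(hτ _).2, e]

/-- **`hp`** over `MulL`. -/
theorem hpX (h : MulL S P B ZJ L W Z C A 4) (hk : 2 ≤ k) {z : Fin k → G} (hz : HZ S W Z z)
    (hne : ∃ i, ¬ (⨅ l, centralizer ({z l} : Set G)) ≤ normalizer (Z i : Set G))
    (hL : LowC h.cl (⨅ l, centralizer ({z l} : Set G)))
    (hO : OffC h.cl (normalizer (ZJ : Set G)) (⨅ l, centralizer ({z l} : Set G))) :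
    ∀ i, ∃ f ∈ (⨅ l, centralizer ({z l} : Set G)),
      f ∈ normalizer (W i : Set G) ∧ f ∉ normalizer (Z i : Set G) := by
  obtain ⟨F, _, _, _, M, L', Z', A', σ, hF, D, hσ⟩ := exists_dtX h hk (by norm_num)
  have eB : B = BT (nL h.cl) := h.eqB
  have eZ : ZJ = ZT (nL h.cl) := h.eZ
  have hZV : ZT (nL h.cl) ≤ zl (S : Subgroup G) P := eZ ▸ h.fr.ZJV
  set z' : Fin k → G := fun l => z (σ.symm l) with hz'
  have eD : (⨅ l, centralizer ({z' l} : Set G)) = ⨅ l, centralizer ({z l} : Set G) :=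
    σ.symm.iInf_comp (g := fun l => centralizer ({z l} : Set G))
  have eT : ((S : Subgroup G) ⊓ ⨅ l, normalizer (Wn M l : Set G)) =
      (S : Subgroup G) ⊓ ⨅ l, normalizer (W l : Set G) := by
    congr 1
    rw [← σ.iInf_comp (g := fun l => normalizer (Wn M l : Set G))]
    exact iInf_congr fun l => by rw [(hσ l).1]
  have hzD : HZ S (Wn M) Z' z' := by
    intro i
    have h1 := hz (σ.symm i)
    rw [(hσ _).2, Equiv.apply_symm_apply, ← eT] at h1
    exact h1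
  have hneD : ∃ i, ¬ (⨅ l, centralizer ({z' l} : Set G)) ≤ normalizer (Z' i : Set G) := by
    obtain ⟨i, hi⟩ := hne
    exact ⟨σ i, by rwa [eD, ← (hσ i).2]⟩
  have hres := hp_of D hF hzD hneD ?_ ?_ ?_
  · intro i
    obtain ⟨f, h1, h2, h3⟩ := hres (σ i)
    rw [eD] at h1
    rw [← (hσ i).1] at h2
    rw [← (hσ i).2] at h3
    exact ⟨f, h1, h2, h3⟩
  · -- `BM`
    rw [eD]
    intro T Y hT hBT hmin hc hYH hn hZ
    exfalso
    have hK : o2 P ≤ o2 Y := by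
      by_contra hK
      exact hZ (hL T Y hT hBT hmin hc hYH hK)
    obtain ⟨L₁, V₁, hL₁, hb, -⟩ := Node.MulXTwo.exists_fbx h hT (eB ▸ hBT) hmin hc hK hn hZ
    obtain ⟨l, hno, -⟩ := uni0X h (by norm_num) hb
    obtain ⟨x, hx, hne'⟩ := hno (z l) (hz l).1 (hz l).2.1
    exact hne' (mem_DD.1 (hYH (hL₁ hx)) l)
  · rw [eD]
    exact SWT.qfix_of h.cl hZV (eZ ▸ hO)
  · rw [eD]
    exact SWT.qfam_of h.cl le_rfl hL (eZ ▸ hO)

end mulL

end Cfsg.Agent.Omega.EK3.QX
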