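import Cfsg.Agent.Omega.OM.SWT.CaseLS
import Cfsg.Agent.Omega.OM.SWT.Sel

/-!
# The case (L) of GammaFF: `OffC` for all groups from `OffC` for `C_G(Ω₁Z(S))`

A quiet minimal parabolic `Y` over a 2-group `T ≥ B` has a conjugate `Y^m`, `m ∈ N_G(B)`, with `T^m ≤ S`, so
`Y^m ≤ C_G(Ω₁Z(S))`.

* **`offC_top : OffC h M (C_G(Ω₁Z(S))) → N_G(B) ≤ M → OffC h M ⊤`**; `OffC.mono` : smaller `H`, larger `M`.
-/

set_option autoImplicit false
set_option linter.unusedSectionVars false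

namespace Cfsg.Agent.Omega.EK3.QX

open Subgroup Cfsg Cfsg.Agent.ZN.ChoiceBase Cfsg.Agent.ZN.ChoiceSit
open Cfsg.Agent.ZN (jj zj bau zc zl o2)
open Cfsg.Agent.Omega.NO3S.Level (CaseL)
open Cfsg.Agent.Omega.FrameNOFF (CZ)
open Cfsg.Agent.Omega.OM.SWT

universe u

variable {G : Type u} [Group G] [Finite G] {S : Sylow 2 G} {P : Subgroup G}

theorem _root_.Cfsg.Agent.Omega.OM.SWT.OffC.mono {h : CaseL S P} {M M' H H' : Subgroup G} (hO : OffC h M H)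
    (hM : M ≤ M') (hH : H' ≤ H) : OffC h M' H' := fun T Y hq hl hK =>
  hO T Y ⟨hq.syl, hq.BT, hq.min, hq.char2, hq.le.trans hH, fun hc => hq.nM (hc.trans hM), hq.nx, hq.quiet⟩ hl hK

theorem _root_.Cfsg.Agent.Omega.OM.SWT.LowC.mono {h : CaseL S P} {H H' : Subgroup G} (hL : LowC h H)
    (hH : H' ≤ H) : LowC h H' := fun T Y h1 h2 h3 h4 h5 => hL T Y h1 h2 h3 h4 (h5.trans hH)

/-- **`OffC` for all groups.** -/
theorem offC_top (h : CaseL S P) {M : Subgroup G} (hO : OffC h M (CZ (S : Subgroup G)))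
    (hN : normalizer (BT (nL h) : Set G) ≤ M) : OffC h M ⊤ := by
  intro T Y hq hl hK
  have hsyl : Syl (S : Subgroup G) (normalizer (BT (nL h) : Set G)) :=
    ZN.CaseTwo.syl_of_sylow S ((lb (nL h)).two_le S.isPGroup' (lb (nL h)).BS)
  obtain ⟨T₁, hT₁, hTT₁⟩ := exists_syl hq.syl.2.1 ((lb (nL h)).two_le hq.syl.2.1 hq.BT)
  obtain ⟨m, hm, hmS⟩ := syl_conj hT₁ hsyl
  have hTS : cj m T ≤ (S : Subgroup G) := by
    rw [← hmS]
    exact cj_mono m hTT₁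
  have hBT : BT (nL h) ≤ cj m T := by
    have h1 := cj_mono m hq.BT
    rwa [cj_eq_of_mem_normalizer hm] at h1
  have hz : zc (S : Subgroup G) ≤ zc (cj m T) := fun z hz => by
    obtain ⟨h1, h2, h3⟩ := mem_zc.1 hz
    exact mem_zc.2 ⟨hBT ((lb (nL h)).ZB (zc_S_le (nL h) hz)), h2, fun t ht => h3 t (hTS ht)⟩
  have hYc : Y ≤ cj m⁻¹ (CZ (S : Subgroup G)) := by
    have h1 : cj m Y ≤ centralizer (zc (cj m T) : Set G) := by
      have h2 := cj_mono m hq.quiet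
      rwa [cj_centralizer, ← NO3S.Level.zc_cj] at h2
    have h2 : cj m Y ≤ CZ (S : Subgroup G) := h1.trans (centralizer_le hz)
    have h3 := cj_mono m⁻¹ h2
    rwa [cj_inv_cj] at h3
  exact offC_cj h hO hN (inv_mem hm) T Y ⟨hq.syl, hq.BT, hq.min, hq.char2, hYc, hq.nM, hq.nx, hq.quiet⟩ hl hK

end Cfsg.Agent.Omega.EK3.QX
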