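import Cfsg.Agent.Omega.EK3.QX.TiX
import Cfsg.Agent.Omega.CaseLQ.NoWTi

/-!
# `TI (Z i)` over `MulX.MulL`, `k = 2`, `q ≥ 4`, from (T1) alone

* `noWL` : `NoWL` is a theorem (helper509, `CaseLQ/NoWTi.lean`; helper681, `noW_core'`);
* `ti_two_of` : `TI (Z i)`.
-/

set_option autoImplicit false
set_option linter.unusedSectionVars false

namespace Cfsg.Agent.Omega.EK3.QX

open Subgroup Cfsg
open Cfsg.Agent.Omega.NO3S.EThree.Frame (TI)
open Cfsg.Agent.Omega.Node.MulX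

universe u

variable {G : Type u} [Group G] [Finite G] {S : Sylow 2 G} {P B ZJ : Subgroup G} {L W Z C A : Fin 2 → Subgroup G} {q : ℕ}

theorem noWL (h : MulL S P B ZJ L W Z C A q) (hq : 3 ≤ q) : NoWL S P B Z :=
  fun _ _ hij _ hD hD1 _ _ hBT hTS hT hR hRD _ hmv hcnt =>
    CaseLQ.NoWTi.noWL h hq hij hD hD1 hBT hTS hT hR hRD hmv hcnt

/-- **`TI (Z i)` over the case (L) of GammaFF, `k = 2`, `q ≥ 4`**, from (T1). -/
theorem ti_two_of (h : MulL S P B ZJ L W Z C A q) (hq : 4 ≤ q) (t1 : Q.TOne ZJ Z) : ∀ i, TI (Z i) :=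
  ti_two h hq t1 (noWL h (by omega))

end Cfsg.Agent.Omega.EK3.QX
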